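import Mathlib

/-!
# Eight matrices of degree 45 over seven elements for the triple cover of the O'Nan group

Letters 0, ..., 6 are the generators g, a, ..., f and letter 7 is the inverse of g. Found as the nonsplit extension
of the modules of degrees 8 and 37 of the subgroup generated by a, ..., f, extended by an intertwining matrix.
-/

set_option autoImplicit false
set_option maxRecDepth 20000

namespace CfsgLib.Recog.ONanMat

/-- letter 0 -/
def mat0 : List (List (ℕ × ℕ)) := [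
  [(0,5), (1,2), (2,5), (3,2), (4,1), (6,6), (9,1), (10,2), (11,5), (12,6), (14,3), (15,2), (17,2), (21,6), (22,1), (24,2), (25,4), (26,4), (27,6), (28,2), (29,1), (30,1), (32,1), (33,2), (34,2), (35,6), (36,3), (37,4), (38,6)],
  [(0,2), (1,5), (2,5), (3,5), (4,4), (6,6), (8,1), (11,5), (12,6), (14,4), (15,4), (16,2), (17,2), (18,4), (19,1), (20,1), (21,4), (22,3), (23,3), (24,3), (25,5), (27,3), (28,2), (29,4), (30,6), (32,6), (33,2), (34,5), (35,1), (36,6), (37,4), (38,6)],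
  [(1,3), (2,5), (3,6), (4,6), (8,5), (9,3), (10,1), (11,4), (12,6), (14,6), (15,2), (17,3), (18,6), (21,2), (22,5), (24,3), (25,3), (26,5), (27,2), (28,5), (29,2), (30,5), (32,3), (33,3), (34,5), (35,4), (36,2), (37,5), (38,3)],
  [(1,4), (2,6), (3,5), (4,6), (5,4), (6,4), (7,2), (9,2), (10,3), (11,6), (12,2), (13,4), (14,5), (15,6), (17,5), (18,1), (19,2), (20,1), (21,3), (22,3), (24,2), (25,5), (26,1), (27,1), (28,2), (29,3), (30,6), (31,3), (32,5), (33,1), (34,1), (35,1), (36,5), (37,1), (38,5), (39,4), (42,2), (43,6), (44,4)],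
  [(0,6), (1,4), (2,1), (3,4), (4,3), (5,3), (6,3), (7,5), (8,3), (9,2), (10,6), (11,1), (13,3), (14,3), (15,2), (16,1), (17,2), (18,1), (19,2), (20,3), (21,1), (23,1), (24,3), (25,1), (26,2), (27,4), (28,3), (29,5), (30,6), (31,4), (32,1), (33,4), (34,6), (35,5), (36,2), (37,6), (38,2), (39,3), (42,5), (43,1), (44,3)],
  [(0,4), (2,6), (3,1), (4,1), (5,3), (6,4), (7,2), (8,2), (10,2), (11,6), (13,4), (14,5), (15,6), (16,6), (17,5), (18,6), (20,4), (21,5), (22,6), (24,3), (25,1), (27,1), (28,4), (29,3), (30,1), (31,3), (32,5), (33,2), (34,4), (36,4), (37,1), (38,5), (39,5), (40,3), (42,2), (43,3), (44,3)],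
  [(1,3), (2,3), (3,3), (4,1), (5,4), (6,1), (7,2), (9,5), (10,1), (11,1), (12,5), (13,4), (14,5), (15,2), (17,3), (18,6), (19,2), (20,1), (21,3), (22,3), (23,5), (24,4), (25,1), (26,3), (27,6), (29,6), (30,6), (31,3), (32,6), (33,1), (34,5), (35,4), (36,4), (37,2), (38,2), (39,4), (42,2), (43,6), (44,4)],
  [(0,6), (1,6), (2,3), (3,4), (4,6), (5,5), (8,4), (9,4), (10,1), (11,6), (12,2), (13,1), (14,1), (16,6), (17,2), (18,1), (19,5), (20,3), (22,3), (23,3), (24,1), (25,2), (26,1), (28,3), (29,2), (31,3), (32,1), (33,6), (34,6), (35,1), (36,2), (37,6), (38,5), (41,3), (42,3), (43,6)],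
  [(0,5), (1,6), (2,1), (3,2), (4,6), (6,4), (9,6), (10,1), (11,2), (12,1), (14,5), (15,5), (17,5), (18,3), (21,2), (22,5), (23,4), (24,6), (25,4), (26,4), (27,3), (28,4), (29,2), (30,3), (32,4), (34,1), (35,2), (36,1), (37,2), (38,1)],
  [(0,6), (1,5), (2,1), (3,5), (4,2), (6,4), (8,6), (10,4), (11,2), (12,1), (14,6), (15,6), (16,5), (17,5), (18,2), (19,6), (20,6), (25,4), (26,1), (27,3), (28,6), (29,2), (30,2), (32,3), (34,1), (36,6), (37,2), (38,1)],
  [(0,4), (1,5), (2,4), (3,2), (6,5), (8,1), (9,3), (10,6), (12,6), (14,6), (15,4), (16,6), (18,3), (19,3), (20,3), (21,4), (22,3), (23,5), (24,1), (25,6), (28,6), (29,5), (30,5), (32,2), (33,3), (34,6), (35,4), (36,6), (37,3), (38,4)],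
  [(0,4), (1,1), (2,4), (3,3), (5,3), (6,5), (7,6), (8,4), (9,1), (10,6), (11,5), (12,6), (13,6), (14,3), (15,4), (16,2), (17,2), (18,4), (19,2), (20,3), (21,5), (22,4), (23,2), (25,4), (26,2), (27,3), (28,3), (29,3), (30,5), (31,4), (32,2), (33,6), (34,5), (35,5), (36,6), (38,2), (39,2), (40,5), (42,5), (43,5)],
  [(0,2), (1,2), (2,1), (3,4), (6,3), (8,4), (9,4), (12,1), (14,5), (15,3), (16,4), (18,2), (19,2), (20,2), (23,5), (24,2), (25,5), (26,4), (27,1), (28,5), (29,4), (32,5), (33,5), (34,2), (35,1), (36,1), (37,6), (38,1)],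
  [(0,1), (1,4), (2,4), (3,5), (5,1), (6,5), (7,6), (8,1), (9,4), (10,3), (11,4), (12,5), (15,4), (16,6), (17,2), (18,5), (19,4), (20,5), (21,1), (22,4), (23,6), (24,4), (25,2), (26,3), (27,3), (28,2), (30,5), (31,4), (33,4), (35,6), (36,4), (38,2), (39,4), (40,4), (42,5), (43,5)],
  [(0,6), (1,4), (2,1), (4,6), (6,6), (8,2), (9,4), (10,4), (11,1), (12,6), (14,5), (15,1), (16,3), (17,6), (18,5), (19,5), (20,5), (21,3), (22,4), (24,1), (25,5), (26,4), (27,3), (28,3), (29,5), (30,4), (32,2), (33,2), (34,3), (35,1), (36,2), (37,2), (38,6)],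
  [(0,4), (1,5), (2,2), (3,4), (6,3), (9,4), (10,4), (11,6), (12,1), (14,6), (15,4), (17,1), (18,5), (23,5), (24,2), (25,1), (26,5), (27,4), (28,6), (29,6), (30,5), (32,3), (33,5), (34,2), (35,5), (36,3), (37,2), (38,4)],
  [(0,1), (1,6), (2,1), (3,1), (4,6), (5,6), (6,4), (7,6), (9,4), (10,2), (11,4), (12,6), (13,2), (14,4), (15,1), (16,3), (17,5), (18,5), (20,3), (21,2), (22,4), (23,3), (26,3), (27,5), (28,1), (29,2), (30,4), (31,3), (34,4), (35,4), (38,6), (39,2), (40,3), (41,2), (42,1), (43,6)],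
  [(0,3), (1,6), (2,2), (3,6), (4,5), (5,3), (7,6), (8,3), (9,6), (11,3), (12,3), (13,6), (14,1), (15,6), (16,4), (17,4), (19,3), (20,4), (21,4), (22,5), (23,4), (25,1), (26,2), (27,5), (28,1), (29,5), (30,3), (31,4), (32,3), (33,3), (34,3), (35,2), (36,5), (38,5), (39,2), (40,5), (42,5), (43,5)],
  [(0,3), (2,2), (3,6), (4,6), (9,6), (11,5), (14,1), (15,5), (17,2), (18,3), (21,2), (22,5), (23,6), (24,4), (25,3), (26,3), (27,6), (32,4), (33,4), (35,1), (36,2), (37,6), (38,6)],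
  [(0,4), (1,6), (2,5), (3,4), (4,1), (5,5), (6,2), (7,5), (10,6), (11,3), (12,1), (13,4), (14,4), (15,3), (16,4), (17,1), (18,1), (19,1), (20,6), (21,5), (23,6), (24,5), (25,5), (28,5), (29,2), (30,3), (31,6), (32,2), (33,2), (34,2), (35,4), (36,5), (37,3), (38,4), (39,4), (40,6), (41,4), (42,2), (43,5)],
  [(0,6), (1,5), (3,1), (4,1), (5,4), (6,4), (7,4), (8,1), (9,5), (10,5), (11,3), (12,5), (13,6), (15,5), (16,2), (17,3), (18,1), (19,5), (20,1), (21,4), (23,1), (24,5), (25,4), (26,3), (27,4), (28,5), (29,1), (31,2), (32,1), (33,3), (35,1), (36,3), (37,4), (38,5), (39,6), (40,2), (41,6), (42,3), (43,4)],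
  [(0,4), (1,4), (3,1), (4,6), (5,1), (7,5), (8,3), (9,4), (10,6), (11,4), (12,3), (13,2), (14,2), (15,3), (16,6), (17,2), (18,2), (20,4), (21,3), (23,2), (24,1), (25,2), (26,2), (27,2), (28,1), (29,4), (30,4), (31,2), (32,4), (33,1), (34,3), (35,2), (36,4), (37,1), (38,4), (39,1), (40,5), (41,1), (42,6), (43,1), (44,4)],
  [(0,6), (1,1), (3,4), (5,3), (8,6), (9,1), (10,1), (11,1), (12,3), (13,6), (14,2), (15,6), (16,1), (18,3), (19,4), (20,2), (21,6), (22,6), (24,3), (25,6), (26,4), (27,2), (28,4), (30,1), (32,3), (33,2), (34,5), (35,4), (36,4), (39,4), (40,5)],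
  [(0,1), (2,1), (3,4), (4,4), (5,2), (6,2), (7,4), (8,3), (9,6), (11,4), (12,1), (13,4), (16,6), (17,3), (18,4), (19,3), (20,6), (21,1), (22,5), (24,6), (26,1), (27,1), (28,4), (29,2), (30,3), (31,5), (32,1), (33,3), (34,5), (35,2), (36,3), (37,6), (39,1), (40,3), (41,2), (43,4), (44,6)],
  [(0,5), (2,5), (4,5), (5,4), (6,2), (7,5), (8,4), (9,5), (10,4), (11,1), (12,5), (13,1), (16,1), (17,2), (18,3), (19,5), (20,1), (21,6), (24,1), (25,1), (26,6), (27,2), (28,1), (29,6), (30,5), (31,3), (33,1), (34,3), (35,4), (36,5), (38,2), (39,5), (40,5), (41,3), (42,5), (43,4), (44,4)],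
  [(0,2), (1,2), (3,4), (4,3), (5,1), (6,1), (7,4), (8,5), (9,4), (11,2), (12,5), (13,5), (14,5), (15,3), (16,2), (17,2), (18,3), (19,3), (20,3), (22,1), (23,2), (24,2), (25,3), (26,6), (27,2), (28,3), (29,3), (30,5), (31,3), (32,6), (33,5), (34,5), (36,4), (37,4), (38,5), (39,6), (40,3), (41,2), (42,2), (43,5), (44,1)],
  [(0,1), (1,4), (2,6), (3,3), (4,5), (5,2), (6,6), (7,3), (8,3), (9,5), (10,1), (11,1), (12,3), (13,2), (14,4), (15,2), (16,3), (17,6), (18,6), (19,5), (21,4), (22,2), (23,4), (24,1), (26,6), (27,2), (28,3), (29,4), (30,3), (31,2), (32,6), (33,3), (34,6), (35,4), (36,2), (37,2), (38,2), (39,3), (40,3), (41,4), (43,4), (44,2)],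
  [(0,1), (1,5), (2,4), (3,4), (4,1), (5,4), (6,6), (7,2), (8,3), (9,3), (10,6), (11,6), (12,6), (13,2), (14,5), (15,4), (16,6), (17,2), (18,6), (19,2), (20,2), (21,2), (22,3), (23,6), (24,4), (25,4), (26,6), (27,6), (28,5), (29,6), (30,4), (31,2), (32,4), (34,5), (36,2), (37,3), (38,6), (41,6), (42,4), (43,4), (44,6)],
  [(0,2), (1,4), (2,1), (3,4), (4,5), (5,4), (6,1), (8,1), (9,2), (10,6), (11,4), (12,4), (14,5), (15,2), (17,5), (18,5), (19,6), (20,6), (21,3), (22,4), (23,2), (24,2), (26,2), (27,5), (28,6), (31,6), (32,3), (33,2), (34,1), (36,6), (37,3), (38,1), (39,5), (40,2), (43,6), (44,4)],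
  [(0,5), (1,4), (2,4), (3,1), (5,2), (7,5), (8,4), (9,4), (10,3), (11,2), (12,5), (14,2), (15,3), (17,4), (18,6), (19,4), (20,4), (21,4), (22,1), (23,3), (24,5), (25,4), (26,4), (27,3), (28,6), (29,2), (30,1), (31,5), (32,4), (33,3), (34,4), (35,6), (36,1), (37,2), (38,3), (39,2), (40,2), (41,2), (42,5), (43,6), (44,6)],
  [(1,4), (2,5), (3,1), (4,4), (5,6), (6,1), (7,3), (8,6), (9,4), (10,1), (11,6), (12,6), (14,5), (15,1), (16,6), (17,3), (19,4), (20,5), (21,3), (24,6), (26,2), (27,2), (28,3), (29,4), (31,1), (32,6), (34,6), (35,2), (36,1), (37,3), (39,3), (40,2), (42,4), (43,5)],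
  [(0,4), (1,1), (2,5), (3,3), (4,5), (5,2), (6,2), (7,1), (8,3), (9,1), (10,5), (11,2), (13,6), (14,6), (15,3), (16,5), (17,6), (18,3), (19,5), (22,5), (23,6), (24,5), (25,1), (26,3), (27,2), (28,5), (29,4), (30,1), (31,5), (33,3), (35,3), (36,5), (37,2), (38,1), (39,3), (41,4), (42,2), (43,1), (44,2)],
  [(0,3), (2,6), (3,3), (4,1), (5,4), (6,2), (7,5), (8,5), (9,1), (10,3), (11,3), (12,3), (14,4), (15,3), (16,4), (18,3), (19,6), (22,5), (23,6), (24,4), (26,5), (27,3), (29,4), (30,2), (31,3), (32,6), (33,2), (34,5), (35,2), (36,6), (37,4), (38,6), (39,1), (41,5), (42,6), (43,6), (44,1)],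
  [(0,5), (1,6), (3,3), (5,4), (6,1), (8,6), (9,3), (10,6), (11,6), (12,1), (13,6), (14,4), (15,3), (16,5), (17,5), (18,5), (19,3), (20,5), (21,3), (23,4), (24,6), (25,4), (27,4), (28,2), (29,1), (30,5), (31,5), (32,6), (35,5), (37,2), (38,1), (39,4), (41,2), (42,1), (43,4), (44,4)],
  [(1,1), (2,6), (3,6), (4,6), (5,4), (6,2), (7,6), (8,3), (9,5), (10,3), (11,1), (12,4), (13,1), (14,5), (15,2), (16,6), (17,3), (18,1), (19,5), (20,1), (22,1), (23,2), (24,4), (26,3), (27,2), (28,5), (30,4), (31,2), (32,2), (33,4), (34,4), (36,2), (38,4), (39,1), (42,3), (43,3)],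
  [(0,3), (1,6), (2,4), (3,5), (4,5), (5,2), (6,6), (7,2), (8,1), (9,4), (10,1), (11,1), (12,4), (13,6), (14,1), (15,6), (16,4), (17,1), (18,2), (19,1), (21,1), (22,1), (23,6), (24,6), (25,1), (27,2), (28,4), (29,4), (30,1), (31,5), (32,1), (33,3), (34,1), (35,1), (36,1), (37,1), (38,5), (39,1), (41,5), (43,4), (44,3)],
  [(0,6), (1,1), (3,3), (4,6), (5,1), (6,4), (8,1), (9,3), (10,6), (11,5), (12,5), (13,5), (14,3), (15,3), (16,2), (17,3), (19,2), (20,6), (21,1), (22,5), (23,1), (24,1), (25,4), (26,3), (27,6), (28,4), (29,1), (30,5), (31,3), (32,6), (34,5), (36,6), (38,2), (39,1), (41,4), (42,2), (43,1), (44,1)],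
  [(0,2), (2,5), (3,5), (4,5), (5,2), (6,3), (7,4), (8,2), (10,6), (11,3), (13,2), (14,3), (15,6), (17,6), (18,6), (19,3), (21,4), (22,2), (23,6), (24,6), (25,2), (26,3), (27,4), (28,6), (29,4), (30,3), (31,4), (32,6), (33,3), (34,6), (35,3), (36,6), (37,1), (38,5), (41,2), (42,3), (43,6), (44,4)],
  [(0,6), (1,5), (2,2), (3,1), (6,6), (8,4), (9,1), (10,3), (11,4), (12,1), (14,5), (16,6), (17,3), (18,1), (19,3), (20,3), (23,6), (24,1), (25,3), (26,2), (27,5), (28,6), (29,5), (30,5), (33,1), (34,3), (36,1), (37,1), (38,3)],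
  [(0,1), (1,4), (2,3), (3,3), (4,3), (5,6), (6,4), (7,1), (8,2), (9,6), (10,2), (11,1), (12,1), (13,4), (14,5), (15,2), (16,4), (17,6), (19,5), (20,1), (21,5), (22,4), (23,3), (24,2), (25,4), (26,2), (27,5), (29,3), (30,4), (31,5), (32,5), (33,2), (34,5), (35,4), (36,4), (38,6), (39,3), (40,3), (42,1), (44,1)],
  [(0,6), (1,4), (2,6), (3,1), (4,3), (6,1), (7,2), (9,2), (10,2), (11,5), (12,1), (13,5), (14,4), (15,4), (16,6), (17,5), (19,5), (20,2), (21,2), (22,3), (23,2), (24,3), (25,5), (26,2), (28,5), (29,6), (30,2), (31,3), (32,5), (33,2), (34,5), (35,4), (38,5), (39,4), (42,2), (43,6), (44,4)],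
  [(0,2), (1,4), (2,4), (3,2), (4,5), (6,6), (7,2), (8,6), (9,5), (11,2), (12,5), (13,5), (14,5), (15,5), (16,1), (17,2), (18,5), (19,1), (21,5), (22,2), (23,5), (24,6), (25,3), (26,2), (27,4), (28,5), (29,4), (31,4), (32,1), (33,4), (34,1), (35,2), (36,1), (38,4), (39,2), (41,3), (43,3)],
  [(0,2), (1,4), (2,2), (4,5), (5,6), (7,5), (8,6), (9,5), (10,2), (11,2), (12,5), (13,2), (14,6), (17,6), (18,6), (19,1), (20,3), (22,5), (23,2), (24,6), (25,5), (27,1), (28,6), (29,4), (30,1), (31,3), (32,5), (33,6), (35,5), (36,5), (38,2), (39,2), (42,6), (43,5)],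
  [(0,3), (1,6), (2,3), (3,5), (4,6), (5,5), (6,2), (7,4), (8,4), (9,4), (10,2), (11,6), (13,3), (14,3), (15,2), (16,2), (17,4), (20,1), (22,2), (23,5), (25,6), (26,2), (27,5), (28,3), (29,6), (30,1), (31,3), (32,4), (34,5), (35,2), (36,5), (37,4), (38,1), (41,1), (42,3), (43,4), (44,5)],
  [(0,3), (1,6), (2,2), (3,6), (4,6), (5,1), (6,1), (7,2), (8,4), (9,4), (10,2), (11,6), (12,2), (13,3), (14,2), (15,4), (16,2), (17,4), (18,3), (19,6), (20,1), (21,4), (22,5), (23,1), (24,1), (25,3), (26,1), (27,2), (28,4), (31,6), (32,5), (34,4), (35,5), (36,3), (37,6), (38,4), (41,5), (42,6), (43,3), (44,6)]]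

/-- letter 1 -/
def mat1 : List (List (ℕ × ℕ)) := [
  [(1,6)],
  [(0,6)],
  [(2,6), (3,3), (4,3)],
  [(5,6)],
  [(3,1), (4,1), (5,1)],
  [(3,6)],
  [(4,6), (5,6), (6,6)],
  [(7,6)],
  [(9,6)],
  [(8,6)],
  [(10,1), (12,6)],
  [(13,6)],
  [(12,6)],
  [(11,6)],
  [(12,3), (14,6), (15,4), (18,5)],
  [(12,5), (14,2), (15,4), (18,2)],
  [(12,2), (14,1), (15,1), (16,1), (18,6), (19,6)],
  [(10,6), (11,1), (12,3), (13,6), (14,5), (15,5), (16,2), (17,6), (19,1), (20,1)],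
  [(14,4), (15,6), (18,5)],
  [(12,1), (14,5), (15,3), (18,1), (19,6)],
  [(12,2), (15,2), (18,1), (19,4), (20,1)],
  [(12,2), (14,3), (15,5), (18,4), (19,5), (20,4), (21,6), (22,4), (23,5), (24,2), (25,5)],
  [(22,1)],
  [(12,2), (14,5), (15,1), (18,2), (19,2), (20,6), (21,5), (22,5), (24,6), (25,1), (26,5)],
  [(12,5), (14,6), (15,4), (19,4), (20,4), (21,1), (22,1), (23,2), (25,1), (26,6), (27,4)],
  [(14,6), (15,5), (18,2), (19,5), (20,5), (21,3), (22,3), (23,3), (25,1), (26,1), (27,4)],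
  [(12,1), (14,1), (15,5), (18,2), (19,3), (20,3), (21,2), (22,3), (23,2), (24,5), (25,2), (26,1)],
  [(12,5), (14,4), (15,6), (18,4), (19,3), (20,5), (21,1), (22,5), (23,2), (24,5), (25,2), (26,1), (27,6)],
  [(14,6), (15,2), (18,3), (19,5), (20,4), (21,1), (22,1), (23,2), (24,3), (25,4), (26,4), (27,3), (28,6), (29,2), (32,4), (33,1)],
  [(12,5), (14,4), (18,1), (19,6), (20,5), (21,3), (22,3), (23,5), (24,4), (25,3), (26,1), (28,3), (29,2), (30,4), (32,5), (33,3), (34,4)],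
  [(20,4), (21,6), (22,3), (23,4), (24,3), (25,4), (26,3), (27,5), (28,4), (29,4), (30,2), (34,1)],
  [(14,4), (15,6), (16,1), (18,5), (19,3), (20,1), (21,6), (22,3), (23,5), (24,3), (25,3), (26,1), (27,3), (28,6), (29,2), (30,5), (31,6), (32,1), (33,2), (34,3), (35,1)],
  [(12,2), (14,1), (15,4), (19,1), (20,6), (21,2), (22,1), (23,1), (24,6), (25,1), (26,4), (27,4), (28,5), (30,4), (32,6), (33,1), (34,1), (35,2), (36,6)],
  [(12,6), (15,4), (18,5), (20,3), (21,1), (22,4), (24,6), (25,1), (26,3), (27,4), (28,2), (29,5), (30,4), (32,5), (33,5), (34,2), (35,6), (36,4)],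
  [(14,4), (15,6), (18,5), (20,6), (21,2), (22,1), (23,5), (24,2), (25,5), (26,1), (27,4), (28,5), (29,4), (30,2), (32,6), (33,5), (34,3)],
  [(20,6), (21,2), (22,1), (23,6), (24,2), (25,5), (26,2), (27,6), (28,4), (30,4), (32,3), (33,6), (34,4), (35,1)],
  [(14,6), (15,2), (18,4), (20,6), (21,2), (22,1), (23,6), (24,6), (25,1), (26,2), (27,5), (30,4), (32,2), (33,5), (34,2), (35,6), (36,5)],
  [(24,6), (25,1), (26,4), (27,4), (28,5), (29,6), (30,5), (32,5), (33,3), (34,3), (35,6), (37,6)],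
  [(16,6), (19,3), (20,3), (38,6)],
  [(39,4), (40,1)],
  [(39,6), (40,3)],
  [(22,6), (25,3), (26,3), (28,6), (29,5), (30,1), (41,6)],
  [(22,6), (25,3), (26,3), (28,6), (29,5), (30,1), (42,6)],
  [(19,6), (23,2), (26,6), (27,3), (28,1), (29,5), (30,6), (32,2), (33,4), (34,3), (43,6)],
  [(32,6), (33,5), (34,2), (43,6), (44,1)]]

/-- letter 2 -/
def mat2 : List (List (ℕ × ℕ)) := [
  [(1,3)],
  [(0,5)],
  [(2,6), (3,5), (4,6), (6,1)],
  [(5,3)],
  [(3,2), (4,4), (5,4), (6,2)],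
  [(3,5)],
  [(4,3), (5,3), (6,3)],
  [(7,6)],
  [(0,3), (1,2), (9,6)],
  [(0,3), (1,2), (8,6)],
  [(0,2), (1,3), (2,4), (3,4), (4,4), (10,1), (12,5), (14,3)],
  [(3,3), (5,2), (13,6)],
  [(0,6), (1,1), (2,4), (3,2), (4,5), (6,3), (12,3), (14,1), (15,6), (18,1)],
  [(3,3), (5,2), (11,6)],
  [(0,3), (2,5), (4,5), (6,5), (12,5), (14,2), (15,4), (18,3)],
  [(0,5), (2,6), (3,1), (4,4), (6,3), (12,6), (14,6), (15,6), (18,2)],
  [(0,3), (1,2), (2,1), (3,1), (4,1), (5,6), (6,5), (7,6), (12,1), (15,4), (16,1), (19,5), (20,3), (21,5)],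
  [(4,2), (5,2), (6,5), (10,6), (11,1), (12,3), (13,6), (14,5), (15,5), (16,2), (17,6), (19,1), (20,1)],
  [(4,1), (6,1), (14,1), (15,5), (18,3)],
  [(1,1), (2,3), (3,6), (4,1), (5,1), (6,1), (7,6), (12,4), (14,2), (18,4), (19,3), (23,4), (24,3), (25,4)],
  [(0,1), (1,2), (2,2), (3,6), (4,4), (5,1), (6,3), (7,3), (12,1), (14,5), (15,6), (18,3), (19,2), (20,2), (21,4), (23,3), (24,4), (25,3)],
  [(1,1), (3,4), (4,4), (5,4), (6,5), (7,2), (12,1), (14,4), (15,5), (18,5), (19,6), (20,1), (21,5), (23,4), (24,3), (25,4)],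
  [(22,1)],
  [(0,3), (1,4), (2,1), (3,6), (4,1), (5,3), (6,2), (7,5), (12,1), (14,1), (15,4), (18,6), (19,1), (20,5), (21,2), (22,4), (23,3), (26,4), (27,6), (28,1)],
  [(0,5), (1,4), (2,6), (3,2), (4,4), (5,6), (6,5), (7,3), (12,6), (15,6), (18,2), (19,2), (20,1), (21,6), (22,5), (24,1), (26,2), (27,3), (28,3), (29,3)],
  [(0,2), (2,4), (3,5), (4,5), (5,3), (6,6), (7,2), (14,5), (15,3), (18,5), (19,6), (20,3), (21,4), (22,1), (23,1), (24,4), (25,4), (26,5), (27,4), (28,2), (29,3)],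
  [(0,5), (2,5), (3,1), (4,5), (5,2), (6,6), (7,4), (12,4), (14,1), (15,4), (18,1), (19,5), (20,6), (21,6), (22,4), (23,5), (24,2), (25,5), (26,2), (27,6), (28,6), (29,1), (32,2), (33,4)],
  [(0,5), (2,1), (3,3), (4,2), (5,3), (6,3), (7,4), (12,6), (14,3), (15,3), (18,1), (19,5), (20,3), (21,3), (22,2), (23,2), (24,5), (25,2), (26,2), (27,2), (28,4), (29,3), (30,6), (32,6), (33,5), (34,4)],
  [(0,6), (2,3), (6,3), (7,2), (14,5), (15,4), (18,4), (19,6), (20,1), (21,6), (22,5), (23,3), (24,3), (25,4), (26,3), (27,2), (28,5), (29,6), (30,6), (32,5), (33,3), (34,4)],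
  [(0,4), (2,5), (3,2), (4,3), (5,5), (6,1), (7,1), (12,6), (14,3), (15,5), (19,3), (20,3), (21,4), (22,1), (23,1), (27,5), (29,1), (30,2), (32,4), (33,1), (34,6)],
  [(4,4), (5,2), (6,4), (20,1), (21,5), (22,6), (23,1), (24,6), (25,1), (26,6), (27,3), (28,1), (29,1), (30,4), (34,2)],
  [(0,3), (2,5), (3,2), (4,2), (5,5), (7,1), (14,1), (15,5), (16,1), (18,3), (20,5), (21,5), (22,6), (24,4), (25,2), (26,2), (27,6), (28,5), (29,2), (30,2), (31,6), (32,5), (33,3), (34,4), (35,5), (37,2)],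
  [(0,3), (2,2), (3,5), (4,2), (5,4), (6,4), (7,6), (12,1), (15,3), (18,2), (19,4), (20,5), (21,4), (22,2), (23,5), (24,2), (25,5), (26,1), (27,5), (29,3), (30,4), (32,4), (34,3), (35,2), (36,1), (37,6)],
  [(0,2), (4,2), (5,2), (6,2), (12,3), (14,1), (18,2), (20,6), (21,2), (22,1), (24,3), (25,4), (27,3), (28,1), (30,4), (32,4), (33,5), (34,6), (35,6), (36,3), (37,4)],
  [(4,5), (5,4), (6,5), (14,1), (15,5), (18,3), (20,5), (21,4), (22,2), (23,3), (24,4), (25,3), (26,2), (27,1), (28,3), (29,1), (30,4), (32,5), (33,3), (34,6)],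
  [(0,4), (5,4), (20,5), (21,4), (22,2), (23,5), (24,6), (25,1), (26,3), (27,4), (28,5), (29,2), (30,5), (32,3), (33,6), (34,2), (35,4), (37,2)],
  [(0,6), (4,4), (5,4), (6,4), (14,5), (15,4), (18,1), (20,5), (21,4), (22,2), (23,5), (24,1), (25,6), (26,6), (27,5), (28,6), (29,3), (32,3), (33,1), (34,2), (35,1), (36,3), (37,3)],
  [(0,3), (24,3), (25,4), (26,2), (27,2), (28,6), (29,3), (30,6), (32,6), (33,5), (34,5), (35,3), (37,3)],
  [(16,6), (19,3), (20,3), (38,6)],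
  [(39,2), (40,6)],
  [(39,3), (40,5)],
  [(22,6), (25,3), (26,3), (28,6), (29,5), (30,1), (41,6)],
  [(22,6), (25,3), (26,3), (28,6), (29,5), (30,1), (42,6)],
  [(2,5), (3,2), (4,4), (6,2), (7,6), (19,3), (23,1), (26,3), (27,5), (28,4), (29,6), (30,3), (32,3), (33,6), (34,1), (43,5), (44,5)],
  [(7,3), (32,5), (33,3), (34,4), (43,5), (44,2)]]

/-- letter 3 -/
def mat3 : List (List (ℕ × ℕ)) := [
  [(0,5), (1,3), (2,6)],
  [(0,3), (1,5), (2,6), (3,3), (4,3)],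
  [(0,5), (1,2), (2,6), (3,2), (4,2)],
  [(0,6), (1,2), (2,5), (4,6), (5,5), (6,3), (7,4)],
  [(0,2), (1,4), (2,2), (3,5), (4,6), (5,2), (6,4), (7,3)],
  [(0,2), (1,6), (2,5), (3,5), (4,3), (5,4), (6,3), (7,4)],
  [(0,1), (1,5), (2,6), (4,5), (5,5), (6,2), (7,4)],
  [(0,3), (1,3), (4,4), (5,4), (6,1), (7,5)],
  [(0,6), (1,1), (3,1), (4,1), (8,6), (9,6), (10,6)],
  [(0,1), (1,6), (3,6), (4,6), (8,6), (9,6), (10,1), (12,6)],
  [(0,6), (1,1), (3,1), (4,1), (8,1), (9,2), (12,1)],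
  [(0,1), (1,6), (3,6), (4,6), (8,6), (9,1), (10,1), (11,5), (12,6), (15,6), (16,5)],
  [(8,3), (9,3), (12,2)],
  [(0,6), (1,1), (3,1), (4,1), (8,1), (9,6), (10,6), (12,2), (13,5), (14,4), (15,6), (16,2), (19,5)],
  [(0,4), (1,3), (3,3), (4,3), (8,6), (9,1), (10,5), (12,6), (14,3), (15,5), (18,2)],
  [(0,1), (1,6), (3,6), (4,6), (8,2), (9,2), (12,5), (14,5), (15,3), (18,5)],
  [(0,3), (1,4), (3,4), (4,4), (8,6), (9,1), (11,5), (12,1), (14,1), (15,3), (16,2), (18,1)],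
  [(0,6), (1,1), (3,1), (4,1), (8,1), (9,6), (10,6), (12,2), (14,4), (15,4), (17,5), (18,3), (19,1), (20,1), (21,1), (22,6), (23,2), (24,3)],
  [(0,5), (1,2), (3,2), (4,2), (8,6), (9,4), (10,2), (12,2), (14,1), (15,6), (18,2)],
  [(8,1), (9,5), (10,3), (11,5), (13,5), (14,4), (15,2), (18,6), (19,2)],
  [(0,6), (1,1), (3,1), (4,1), (8,6), (9,2), (10,5), (11,6), (12,6), (13,2), (14,4), (15,6), (16,3), (18,6), (19,5), (21,6), (22,1), (23,6), (24,3), (25,3), (27,5)],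
  [(9,5), (10,6), (11,6), (12,5), (13,6), (14,2), (15,5), (16,4), (18,3), (19,2), (20,2), (21,3), (22,5), (23,4), (24,6), (25,3), (27,4)],
  [(0,4), (1,3), (3,3), (4,3), (8,2), (9,5), (10,5), (11,5), (12,6), (13,2), (14,3), (16,6), (19,1), (20,2), (21,2), (22,6), (23,2), (24,1), (25,1), (27,4)],
  [(9,6), (10,1), (13,3), (14,6), (15,5), (16,1), (17,4), (18,4), (19,2), (20,6), (21,2), (22,5), (23,3), (24,1), (25,6), (26,2), (28,4), (29,1), (30,5), (31,1)],
  [(0,4), (1,3), (3,3), (4,3), (8,4), (10,4), (11,3), (12,5), (13,6), (14,1), (15,4), (16,6), (17,1), (18,4), (19,6), (20,6), (21,4), (22,3), (23,6), (24,1), (25,6), (26,1), (27,3), (28,2), (29,4), (30,6), (31,4)],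
  [(0,4), (1,3), (3,3), (4,3), (8,5), (9,4), (10,1), (11,6), (12,5), (13,6), (14,2), (15,1), (16,5), (17,4), (18,3), (19,3), (21,2), (22,5), (23,2), (24,1), (25,6), (26,6), (27,3), (28,5), (29,3), (30,1), (31,3)],
  [(0,5), (1,2), (3,2), (4,2), (9,3), (10,4), (11,6), (13,5), (14,1), (15,4), (16,4), (18,4), (19,3), (20,4), (21,4), (22,3), (23,2), (24,4), (26,3), (27,1), (28,3), (29,1), (30,2), (32,3), (33,6), (34,1), (35,3)],
  [(0,3), (1,4), (3,4), (4,4), (8,1), (10,2), (11,6), (12,4), (13,4), (14,3), (15,3), (16,2), (17,2), (18,3), (19,1), (20,2), (21,4), (22,3), (23,6), (26,6), (27,2), (28,5), (29,3), (30,1), (31,3)],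
  [(0,6), (1,1), (3,1), (4,1), (8,4), (9,3), (10,6), (11,1), (12,2), (13,2), (14,1), (15,6), (16,3), (17,5), (18,4), (20,4), (21,5), (22,1), (23,1), (24,2), (25,3), (26,2), (27,1), (28,2), (29,3), (30,6), (32,2), (33,4), (34,3), (35,1)],
  [(0,2), (1,5), (3,5), (4,5), (8,2), (9,2), (10,6), (11,1), (12,2), (13,2), (15,1), (16,1), (17,2), (18,2), (19,1), (20,3), (22,2), (23,3), (24,6), (25,3), (26,2), (27,5), (28,3), (29,4), (31,5), (32,4), (33,1), (34,4), (35,5)],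
  [(0,6), (1,1), (3,1), (4,1), (10,1), (11,2), (12,4), (13,1), (14,2), (16,4), (17,4), (18,1), (19,4), (20,4), (22,3), (23,1), (24,2), (25,4), (26,3), (27,4), (28,4), (29,4), (30,5), (31,1), (32,1), (33,2), (34,1), (35,2)],
  [(0,3), (1,4), (3,4), (4,4), (8,4), (9,6), (10,2), (12,4), (13,5), (14,1), (15,3), (16,3), (17,6), (18,5), (20,2), (21,6), (22,2), (23,1), (24,2), (25,2), (26,3), (27,2), (28,3), (30,4), (32,5), (33,3), (34,5), (35,3)],
  [(0,3), (1,4), (3,4), (4,4), (8,3), (9,6), (11,2), (12,3), (13,6), (14,3), (15,4), (16,1), (17,1), (18,4), (19,2), (21,3), (22,5), (23,5), (24,4), (25,6), (26,5), (27,5), (30,4), (31,3), (32,5), (33,1), (34,3), (35,4), (36,5), (37,6), (38,5)],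
  [(0,3), (1,4), (3,4), (4,4), (8,1), (9,6), (10,6), (11,6), (12,6), (13,1), (14,2), (15,1), (16,3), (17,1), (18,2), (19,1), (20,1), (21,5), (22,1), (23,4), (24,6), (26,1), (27,2), (28,3), (29,1), (30,5), (31,6), (32,3), (34,6), (35,6), (36,1), (37,4), (38,1)],
  [(0,1), (1,6), (3,6), (4,6), (9,4), (10,2), (11,3), (13,5), (14,1), (15,6), (16,4), (17,6), (18,1), (19,5), (20,5), (21,5), (22,3), (23,4), (24,1), (25,1), (26,4), (27,1), (28,1), (29,5), (30,1), (31,4), (32,2), (33,4), (35,1)],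
  [(8,2), (9,2), (10,5), (12,2), (13,3), (15,2), (16,4), (17,3), (21,1), (22,5), (23,5), (24,6), (25,1), (26,3), (27,1), (28,6)],
  [(0,6), (1,1), (3,1), (4,1), (8,1), (9,4), (10,4), (11,1), (12,2), (13,2), (14,5), (15,3), (16,2), (17,6), (18,3), (21,2), (22,3), (23,3), (24,5), (25,2), (28,1), (29,6), (30,1), (31,5), (32,2), (33,6), (34,2), (35,2), (37,4), (38,1)],
  [(0,6), (1,1), (3,1), (4,1), (8,3), (9,6), (10,4), (11,4), (12,3), (13,2), (15,2), (16,4), (17,2), (21,5), (22,4), (23,4), (24,2), (25,5), (26,1), (27,2), (28,4), (29,6), (30,4), (31,4), (32,3), (33,6), (34,1), (35,1), (37,6)],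
  [(0,4), (1,3), (3,3), (4,3), (8,4), (9,3), (10,5), (14,5), (15,5), (16,6), (18,2), (19,3), (20,3), (21,3), (22,4), (23,6), (24,2), (26,2), (27,6), (29,5), (30,6), (32,2), (33,2), (34,6), (36,6), (37,3), (38,5)],
  [(0,6), (1,1), (3,1), (4,1), (8,3), (9,6), (10,6), (11,4), (12,3), (13,6), (14,6), (15,5), (16,6), (17,2), (18,3), (19,5), (20,5), (21,3), (22,3), (24,4), (25,5), (26,6), (27,4), (28,5), (29,3), (30,4), (31,5), (32,2), (33,4), (34,4), (35,6), (37,2), (38,5), (39,5), (40,2), (41,3)],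
  [(0,3), (1,4), (3,4), (4,4), (8,3), (9,1), (10,1), (11,1), (12,3), (13,5), (14,2), (15,1), (17,4), (18,5), (19,5), (20,2), (21,4), (24,1), (25,4), (26,3), (27,3), (28,1), (29,2), (31,3), (32,4), (33,1), (34,4), (35,6), (37,4), (38,3), (39,5), (40,3), (41,6)],
  [(0,6), (1,1), (3,1), (4,1), (8,6), (9,1), (11,1), (13,6), (16,3), (19,6), (20,1), (21,4), (22,1), (23,6), (24,3), (26,3), (28,3), (29,1), (30,4), (33,1), (34,3), (35,2), (36,4), (37,6), (39,5), (40,4), (41,5)],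
  [(0,6), (1,1), (3,1), (4,1), (8,6), (9,1), (11,1), (12,3), (13,6), (14,6), (16,3), (19,1), (20,2), (21,3), (22,6), (23,1), (24,3), (26,6), (27,3), (29,5), (30,1), (32,4), (33,1), (34,4), (35,3), (37,6), (42,5), (43,6)],
  [(8,3), (9,5), (10,5), (12,6), (13,1), (14,1), (16,6), (18,5), (19,5), (20,3), (22,6), (23,5), (25,6), (26,3), (27,5), (28,6), (29,1), (30,6), (31,1), (32,3), (33,6), (34,1), (35,1), (37,3), (42,3), (43,2)],
  [(8,3), (9,5), (10,2), (11,5), (12,4), (13,2), (14,5), (15,2), (16,1), (17,6), (18,2), (19,3), (20,6), (21,2), (22,3), (23,4), (24,3), (27,5), (28,3), (29,2), (31,4), (32,4), (33,1), (34,1), (35,3), (37,5), (42,5), (43,5), (44,6)]]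

/-- letter 4 -/
def mat4 : List (List (ℕ × ℕ)) := [
  [(0,6)],
  [(1,6)],
  [(2,6), (3,2), (4,4), (6,2)],
  [(6,6)],
  [(3,1), (4,1), (6,1)],
  [(4,6), (5,6), (6,6)],
  [(3,6)],
  [(2,1), (3,6), (4,5), (6,6), (7,1)],
  [(8,6)],
  [(9,6)],
  [(10,1), (12,1), (14,3), (15,6)],
  [(17,6)],
  [(12,6), (14,1), (15,5), (18,1)],
  [(10,6), (11,1), (12,3), (13,6), (14,5), (15,5), (16,2), (17,6), (19,1), (20,1)],
  [(14,1), (15,3), (18,1)],
  [(15,6), (18,4)],
  [(12,3), (14,6), (18,3), (19,3), (20,4), (21,4), (22,3), (23,2)],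
  [(11,6)],
  [(18,1)],
  [(12,5), (14,1), (15,1), (19,1), (21,5), (22,2), (23,3), (24,1), (25,6), (26,4)],
  [(12,3), (14,1), (15,6), (16,2), (18,1), (19,1), (21,1), (22,6), (24,6), (25,1), (26,3)],
  [(12,5), (14,1), (15,3), (16,3), (19,5), (20,5), (21,3), (22,3), (23,3), (27,1), (28,6)],
  [(16,3), (19,5), (20,5), (22,6)],
  [(12,6), (14,4), (15,6), (18,6), (21,2), (22,5), (24,4), (25,3), (26,2), (27,5), (28,2)],
  [(12,6), (14,4), (15,2), (18,3), (21,5), (22,2), (23,5), (25,6), (26,4), (27,5), (28,2), (29,6), (30,2), (32,6)],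
  [(15,4), (18,2), (21,3), (22,4), (24,1), (25,5), (26,5), (27,5), (30,2), (32,1), (33,4)],
  [(15,1), (18,5), (23,3), (24,4), (25,3), (26,3), (27,2), (28,1), (29,2), (32,4), (33,1)],
  [(15,1), (18,1), (21,3), (22,4), (23,5), (24,3), (25,4), (26,2), (27,6), (28,6), (29,3), (30,2), (33,4), (34,1), (35,3), (36,2)],
  [(15,4), (18,2), (21,3), (22,4), (24,1), (25,6), (26,1), (27,3), (28,2), (29,3), (30,2), (33,4), (34,1), (35,3), (36,2)],
  [(15,2), (18,2), (21,6), (22,1), (23,3), (24,6), (25,1), (26,2), (27,6), (28,3), (29,4), (30,3), (32,4), (33,2), (34,1), (35,5), (36,5), (37,5)],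
  [(18,6), (21,6), (22,1), (23,4), (24,5), (25,2), (26,6), (27,1), (28,6), (30,1), (34,3), (35,6), (36,5), (37,3)],
  [(15,2), (18,3), (23,6), (24,1), (26,4), (27,5), (28,6), (30,1), (31,1), (32,4), (35,6), (36,5), (37,1)],
  [(15,5), (18,4), (23,1), (24,6), (25,1), (26,4), (27,2), (28,3), (29,4), (30,4), (32,4), (33,5), (34,5), (36,5), (37,1)],
  [(33,5), (34,3), (35,2), (36,6)],
  [(34,6), (35,2), (36,5), (37,6)],
  [(33,1), (34,4), (35,1), (36,4), (37,5)],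
  [(33,5), (34,6), (35,4), (36,4)],
  [(33,6), (34,3), (35,6), (36,2), (37,4)],
  [(38,1)],
  [(21,2), (22,5), (23,6), (24,4), (25,3), (26,2), (27,5), (28,2), (29,6), (30,4), (32,6), (34,3), (35,4), (37,4), (39,6)],
  [(29,2), (30,5), (32,2), (34,3), (35,3), (36,1), (37,1), (40,6)],
  [(38,3), (41,1), (42,5)],
  [(38,3), (42,6)],
  [(27,5), (28,5), (29,2), (32,4), (33,1), (34,2), (35,3), (37,3), (43,1)],
  [(27,5), (28,5), (29,2), (32,4), (33,1), (34,2), (35,3), (37,3), (44,1)]]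

/-- letter 5 -/
def mat5 : List (List (ℕ × ℕ)) := [
  [(3,1)],
  [(5,1)],
  [(0,1), (1,5), (2,2), (3,5), (4,1), (5,5), (6,4), (7,3)],
  [(0,1)],
  [(1,6), (4,6), (5,6)],
  [(1,1)],
  [(6,6)],
  [(2,6), (3,1), (4,2), (6,1), (7,5)],
  [(11,1)],
  [(13,1)],
  [(8,1), (9,6), (10,6), (11,1), (12,1), (13,6), (15,1), (16,2)],
  [(8,1)],
  [(12,6), (14,3), (15,2), (19,2)],
  [(9,1)],
  [(12,1), (14,1), (15,3), (18,1), (20,2), (21,1)],
  [(12,2), (14,6), (15,2), (18,6), (20,2), (21,6), (22,2)],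
  [(14,6), (15,2), (16,1), (18,4), (19,6), (20,6), (21,4), (22,6)],
  [(17,6)],
  [(12,1), (14,3), (15,4), (18,4), (21,5), (22,2), (23,1), (24,6), (25,1)],
  [(14,1), (15,5), (18,3), (19,1), (20,2), (21,3), (22,5)],
  [(14,1), (15,5), (16,5), (18,3), (19,1), (21,3), (22,1)],
  [(14,2), (15,3), (16,4), (18,6), (19,3), (20,6), (21,5), (22,4), (23,6), (24,1), (25,6)],
  [(16,4), (19,2), (20,2)],
  [(19,1), (20,3), (21,1), (22,4), (23,3), (24,2), (25,5), (26,5), (27,1), (28,6)],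
  [(14,4), (15,6), (16,6), (18,5), (19,6), (20,2), (21,2), (22,6), (23,6), (24,3), (25,3), (26,6), (27,4), (28,3)],
  [(14,1), (15,5), (16,6), (18,3), (19,5), (21,6), (22,1), (23,4), (25,6), (26,1), (27,3), (28,4)],
  [(14,6), (15,2), (18,4), (19,5), (20,4), (21,6), (22,3), (23,5), (24,1), (25,6), (26,5), (27,5), (29,1), (32,2), (33,4)],
  [(19,4), (20,2), (21,3), (22,5), (23,3), (24,1), (25,6), (26,1), (27,2), (28,4)],
  [(20,2), (21,3), (22,5), (23,4), (24,5), (25,2), (26,2), (27,4), (28,6), (29,5), (32,3), (33,6)],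
  [(20,4), (21,6), (22,3), (23,1), (24,4), (25,3), (27,4), (28,2), (29,3), (32,1), (33,2)],
  [(24,3), (25,4), (26,2), (27,2), (28,6), (29,3), (30,6), (32,6), (33,5)],
  [(20,1), (21,5), (22,1), (23,1), (24,6), (25,2), (26,2), (27,4), (29,5), (31,1), (32,1), (33,2), (34,2)],
  [(20,3), (21,1), (22,4), (23,3), (26,5), (28,5), (29,6), (30,3), (32,5), (33,3), (34,4), (35,4), (37,4), (39,6)],
  [(20,2), (21,3), (22,5), (23,2), (24,5), (25,2), (26,2), (27,1), (28,4), (29,2), (30,2), (34,5), (35,5), (37,5), (39,4)],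
  [(24,5), (25,2), (26,1), (27,1), (28,3), (29,5), (32,3), (33,6), (34,6)],
  [(20,6), (21,2), (22,1), (23,6), (24,2), (25,5), (26,2), (27,6), (28,4), (30,4), (32,3), (33,6), (34,4), (35,1)],
  [(20,2), (21,3), (22,5), (23,2), (24,5), (25,2), (26,2), (27,1), (28,3), (29,2), (30,2), (32,5), (33,3), (35,3), (37,5), (39,2), (40,1)],
  [(20,1), (21,5), (22,6), (23,1), (24,6), (25,1), (26,1), (27,4), (28,5), (29,1), (30,5), (32,6), (33,5), (37,1)],
  [(22,5), (25,6), (26,6), (28,5), (29,3), (30,2), (31,6), (32,6), (33,5), (34,3), (35,2), (37,3), (38,6), (41,5)],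
  [(23,3), (24,4), (25,3), (26,5), (27,6), (28,2), (29,5), (30,5), (32,2), (33,6), (34,5), (35,4), (37,4)],
  [(23,1), (24,6), (25,1), (26,4), (27,2), (28,3), (29,4), (30,4), (32,3), (33,2), (34,6), (35,3), (36,1), (37,1)],
  [(22,1), (25,4), (26,4), (28,1), (29,2), (30,6), (41,1)],
  [(22,1), (25,4), (26,4), (28,1), (29,2), (30,6), (42,1)],
  [(19,1), (23,5), (26,1), (27,4), (28,6), (29,2), (30,1), (32,5), (33,3), (34,4), (43,1)],
  [(19,1), (23,5), (26,1), (27,4), (28,6), (29,2), (30,1), (32,4), (33,1), (34,6), (44,1)]]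

/-- letter 6 -/
def mat6 : List (List (ℕ × ℕ)) := [
  [(0,6)],
  [(1,6)],
  [(2,6)],
  [(6,1)],
  [(3,6), (4,6), (6,6)],
  [(4,1), (5,1), (6,1)],
  [(3,1)],
  [(2,1), (3,6), (4,5), (6,6), (7,1)],
  [(8,6)],
  [(9,6)],
  [(10,6)],
  [(17,1)],
  [(12,6)],
  [(10,1), (11,6), (12,4), (13,1), (14,2), (15,2), (16,5), (17,1), (19,6), (20,6)],
  [(14,6)],
  [(15,6)],
  [(12,3), (14,5), (15,2), (18,2), (19,3), (20,3), (21,3), (22,4), (23,6), (24,2)],
  [(11,1)],
  [(18,6)],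
  [(12,5), (14,1), (15,1), (18,4), (19,1), (21,2), (22,5), (23,1), (24,2), (25,5), (27,6)],
  [(12,3), (14,3), (15,2), (16,5), (18,6), (19,6), (21,6), (22,1), (23,1), (24,1), (25,2), (27,1)],
  [(12,5), (14,1), (15,3), (16,4), (18,3), (19,2), (20,2), (21,4), (22,4), (23,6), (24,2), (25,6), (27,6), (28,1), (29,4)],
  [(16,4), (19,2), (20,2), (22,1), (25,1), (26,1), (28,2), (29,4), (30,5)],
  [(12,6), (14,4), (15,6), (18,2), (21,5), (22,2), (23,2), (24,3), (25,4), (26,5), (27,2), (28,5), (29,6), (30,5), (32,6)],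
  [(12,6), (14,4), (15,2), (21,2), (22,5), (23,3), (24,1), (25,5), (26,4), (27,6), (28,4), (29,3), (30,3), (32,3)],
  [(15,4), (18,3), (21,4), (22,3), (23,3), (24,3), (25,3), (26,5), (28,4), (29,5), (32,6), (33,4), (34,6)],
  [(15,1), (18,5), (23,3), (24,4), (25,3), (27,4), (28,4), (30,3), (32,4), (33,5), (34,3), (35,1), (36,3)],
  [(15,1), (18,2), (21,4), (22,3), (23,1), (24,5), (25,2), (26,1), (27,4), (28,3), (29,2), (30,1), (33,6), (34,2)],
  [(15,4), (18,3), (21,4), (22,3), (23,3), (24,3), (25,4), (26,4), (27,3), (29,2), (30,3), (32,5), (33,2), (34,5), (35,1), (36,1), (37,1)],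
  [(15,2), (18,4), (21,1), (22,6), (23,2), (24,3), (25,4), (26,4), (27,4), (28,5), (29,2), (30,3), (32,2), (33,2), (34,6), (35,5), (36,5), (37,5)],
  [(18,1), (21,1), (22,6), (23,3), (24,2), (25,5), (26,1), (27,6), (28,1), (30,6), (34,4), (35,1), (36,2), (37,4)],
  [(15,2), (18,3), (23,6), (24,1), (26,4), (27,5), (28,6), (30,1), (31,1), (32,4), (35,5), (36,5), (38,2)],
  [(15,5), (18,4), (23,1), (24,6), (25,1), (26,4), (27,2), (28,3), (29,4), (30,4), (32,4), (33,5), (34,5), (35,3), (36,4), (37,6)],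
  [(33,5), (34,3), (35,3), (36,6), (37,1)],
  [(34,6), (35,1), (36,1), (37,6)],
  [(33,1), (34,4), (35,1), (36,6), (37,1)],
  [(33,5), (34,6), (35,6), (36,4), (37,2)],
  [(33,6), (34,3), (35,6), (36,2), (37,4)],
  [(38,6)],
  [(21,5), (22,2), (23,1), (24,3), (25,4), (26,5), (27,2), (28,5), (29,1), (30,3), (32,1), (34,4), (35,3), (37,3), (39,1)],
  [(29,5), (30,2), (32,5), (34,4), (35,4), (36,6), (37,6), (40,1)],
  [(38,4), (41,1)],
  [(38,4), (42,1)],
  [(27,5), (28,5), (29,2), (32,4), (33,1), (34,2), (35,3), (37,3), (43,1)],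
  [(27,5), (28,5), (29,2), (32,4), (33,1), (34,2), (35,3), (37,3), (44,1)]]

/-- letter 7 -/
def mat7 : List (List (ℕ × ℕ)) := [
  [(0,2), (1,5), (2,5), (3,5), (4,4), (6,6), (8,1), (11,5), (12,6), (14,4), (15,4), (16,2), (17,2), (18,4), (19,1), (20,1), (21,4), (22,3), (23,3), (24,3), (25,5), (27,3), (28,2), (29,4), (30,6), (32,6), (33,2), (34,5), (35,1), (36,6), (37,4), (38,6)],
  [(0,5), (1,2), (2,5), (3,2), (4,1), (6,6), (9,1), (10,2), (11,5), (12,6), (14,3), (15,2), (17,2), (21,6), (22,1), (24,2), (25,4), (26,4), (27,6), (28,2), (29,1), (30,1), (32,1), (33,2), (34,2), (35,6), (36,3), (37,4), (38,6)],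
  [(0,3), (2,5), (8,3), (9,5), (10,2), (11,4), (14,3), (15,6), (16,4), (17,3), (19,2), (20,2), (21,4), (22,3), (23,4), (24,2), (25,6), (26,3), (27,1), (28,4), (29,6), (30,4), (32,6), (33,2), (34,5), (36,2), (37,5), (38,3)],
  [(0,4), (2,4), (3,6), (4,2), (5,4), (6,6), (7,5), (8,2), (10,5), (11,6), (12,2), (13,3), (14,1), (15,4), (17,4), (18,1), (19,3), (20,6), (21,5), (22,5), (23,1), (24,4), (25,4), (26,2), (27,3), (30,1), (31,4), (32,2), (34,6), (35,5), (36,4), (37,5), (38,5), (39,2), (40,4), (42,5), (43,4), (44,4)],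
  [(0,4), (1,6), (2,3), (3,6), (4,3), (5,3), (6,1), (7,2), (8,2), (9,3), (11,1), (12,3), (13,4), (14,5), (15,2), (16,6), (17,3), (18,4), (20,4), (21,5), (22,6), (23,5), (24,5), (25,4), (26,2), (27,6), (28,2), (29,6), (30,1), (31,3), (32,6), (33,2), (34,1), (35,3), (36,3), (37,2), (38,2), (39,5), (40,3), (42,2), (43,3), (44,3)],
  [(1,4), (2,4), (3,4), (4,6), (5,3), (6,6), (7,5), (9,2), (10,6), (11,6), (12,2), (13,3), (14,2), (15,5), (17,4), (18,1), (19,5), (20,6), (21,4), (22,4), (23,2), (24,3), (25,6), (26,4), (27,1), (29,1), (30,1), (31,4), (32,1), (33,6), (34,2), (35,3), (36,3), (37,5), (38,5), (39,3), (42,5), (43,1), (44,3)],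
  [(0,3), (2,1), (3,6), (4,6), (5,4), (6,3), (7,5), (8,5), (10,5), (11,1), (13,3), (14,2), (15,1), (16,1), (17,2), (18,1), (20,3), (21,2), (22,1), (24,4), (25,6), (27,6), (28,3), (29,4), (30,6), (31,4), (32,2), (33,5), (34,3), (36,3), (37,6), (38,2), (39,2), (40,4), (42,5), (43,4), (44,4)],
  [(0,6), (1,6), (2,3), (3,6), (4,1), (5,2), (6,4), (8,4), (9,4), (11,6), (12,6), (13,6), (14,2), (15,3), (16,3), (18,2), (19,3), (20,5), (21,6), (22,5), (23,4), (24,1), (25,3), (26,2), (27,6), (29,1), (30,5), (31,4), (32,2), (33,1), (35,3), (36,2), (37,4), (38,3), (41,4), (42,4), (43,1)],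
  [(0,6), (1,5), (2,1), (3,5), (4,2), (6,4), (8,6), (10,4), (11,2), (12,1), (14,6), (15,6), (16,5), (17,5), (18,2), (19,6), (20,6), (25,4), (26,1), (27,3), (28,6), (29,2), (30,2), (32,3), (34,1), (36,6), (37,2), (38,1)],
  [(0,5), (1,6), (2,1), (3,2), (4,6), (6,4), (9,6), (10,1), (11,2), (12,1), (14,5), (15,5), (17,5), (18,3), (21,2), (22,5), (23,4), (24,6), (25,4), (26,4), (27,3), (28,4), (29,2), (30,3), (32,4), (34,1), (35,2), (36,1), (37,2), (38,1)],
  [(0,5), (1,4), (2,4), (3,2), (6,5), (8,3), (9,1), (10,1), (12,2), (14,6), (15,6), (16,5), (18,6), (19,6), (20,6), (21,3), (22,4), (24,1), (25,6), (26,4), (27,1), (28,6), (29,6), (30,2), (32,3), (33,2), (34,3), (35,4), (36,2), (37,3), (38,4)],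
  [(0,1), (1,4), (2,5), (3,1), (4,4), (5,6), (7,1), (8,1), (9,4), (10,3), (11,5), (12,6), (14,1), (15,6), (16,4), (17,3), (18,1), (19,1), (21,3), (22,6), (23,5), (24,5), (27,5), (28,3), (29,4), (30,6), (31,3), (32,5), (33,2), (34,2), (35,4), (36,6), (38,2), (39,3), (40,3), (42,2), (43,2)],
  [(0,2), (1,2), (2,1), (3,4), (6,3), (8,4), (9,4), (12,1), (14,5), (15,3), (16,4), (18,2), (19,2), (20,2), (23,5), (24,2), (25,5), (26,4), (27,1), (28,5), (29,4), (32,5), (33,5), (34,2), (35,1), (36,1), (37,6), (38,1)],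
  [(0,4), (1,1), (2,5), (3,1), (4,2), (5,4), (7,1), (8,4), (9,1), (11,4), (12,4), (13,1), (14,6), (15,1), (16,3), (17,3), (19,4), (20,3), (21,3), (22,2), (23,3), (25,6), (26,5), (27,2), (28,6), (29,2), (30,4), (31,3), (32,4), (33,4), (34,4), (35,5), (36,2), (38,2), (39,5), (40,2), (42,2), (43,2)],
  [(0,4), (1,6), (2,1), (3,5), (4,4), (6,6), (8,4), (9,2), (10,2), (11,1), (12,6), (14,3), (16,5), (17,6), (18,6), (19,6), (20,6), (23,5), (24,2), (25,6), (26,6), (27,3), (28,6), (29,4), (30,5), (32,4), (33,3), (34,3), (35,1), (36,5), (37,2), (38,6)],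
  [(0,5), (1,4), (2,2), (3,1), (4,4), (6,3), (8,4), (10,4), (11,6), (14,2), (15,6), (16,2), (17,1), (18,3), (19,1), (20,1), (21,4), (22,3), (23,6), (25,4), (26,2), (27,3), (28,1), (29,2), (33,6), (34,4), (35,6), (36,3), (37,2), (38,4)],
  [(0,6), (1,1), (2,2), (3,4), (4,1), (5,1), (6,5), (7,1), (8,4), (10,1), (11,4), (12,3), (13,5), (14,3), (16,3), (17,1), (18,5), (19,1), (20,6), (21,5), (22,3), (23,1), (24,3), (25,6), (26,2), (27,5), (29,4), (30,1), (31,4), (32,4), (33,5), (34,1), (35,3), (36,2), (37,1), (38,2), (39,5), (40,4), (41,5), (42,6), (43,1)],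
  [(0,6), (1,3), (2,3), (3,2), (5,6), (6,2), (7,1), (8,6), (9,3), (10,4), (11,3), (12,2), (15,3), (16,1), (17,5), (18,2), (19,3), (20,2), (21,6), (22,3), (23,1), (24,3), (25,5), (26,4), (27,4), (28,5), (30,2), (31,3), (33,3), (35,1), (36,3), (38,5), (39,3), (40,3), (42,2), (43,2)],
  [(1,3), (2,2), (3,2), (4,2), (8,6), (10,2), (11,5), (12,5), (14,2), (15,3), (16,2), (17,2), (18,5), (19,1), (20,1), (21,6), (22,1), (23,3), (24,6), (25,1), (26,2), (27,4), (28,1), (30,3), (32,3), (33,5), (34,4), (35,3), (36,6), (37,6), (38,6)],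
  [(0,6), (1,4), (3,3), (4,5), (5,2), (6,4), (7,2), (10,5), (11,3), (13,3), (14,6), (15,4), (16,2), (18,3), (19,2), (20,4), (21,4), (22,5), (23,4), (24,2), (25,2), (26,3), (27,5), (28,4), (29,1), (30,4), (31,1), (34,3), (35,2), (36,1), (37,5), (38,3), (39,3), (40,1), (41,3), (42,5), (43,2)],
  [(0,5), (1,6), (2,3), (3,3), (5,3), (7,3), (8,5), (9,1), (10,6), (11,3), (12,4), (13,1), (14,4), (16,1), (17,5), (18,3), (19,4), (20,6), (21,1), (22,2), (23,2), (24,3), (25,5), (26,5), (27,6), (28,5), (29,5), (30,4), (31,5), (32,3), (33,6), (34,6), (36,1), (39,1), (40,5), (41,1), (42,4), (43,3)],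
  [(0,4), (1,4), (2,2), (3,6), (4,2), (5,5), (6,2), (7,2), (8,4), (9,3), (10,4), (11,4), (12,2), (13,1), (14,3), (15,2), (17,1), (18,3), (19,5), (20,2), (21,5), (22,2), (23,6), (24,2), (25,1), (26,6), (27,4), (28,6), (30,2), (31,5), (32,3), (34,3), (37,5), (39,6), (40,2), (41,6), (42,1), (43,2), (44,4)],
  [(0,1), (1,6), (4,3), (5,3), (8,1), (9,6), (10,5), (11,1), (13,6), (14,1), (15,3), (16,4), (19,2), (21,3), (22,2), (23,6), (24,3), (25,1), (26,1), (27,3), (28,1), (32,3), (33,1), (35,5), (36,5), (39,4), (40,5)],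
  [(1,1), (2,4), (3,4), (4,1), (5,5), (6,2), (7,3), (8,6), (9,3), (10,3), (11,4), (12,4), (14,5), (15,6), (17,6), (18,6), (19,1), (20,4), (21,6), (22,2), (23,4), (24,6), (25,2), (26,1), (27,1), (28,4), (29,1), (30,3), (31,2), (32,6), (33,3), (34,4), (36,5), (37,6), (38,3), (39,1), (40,3), (41,5), (43,4), (44,6)],
  [(1,5), (3,6), (4,2), (5,3), (6,6), (7,2), (8,5), (9,4), (10,2), (11,1), (12,3), (13,4), (15,1), (16,5), (17,5), (18,6), (19,6), (20,2), (21,6), (22,2), (23,2), (24,3), (25,2), (26,3), (27,2), (28,6), (29,4), (30,4), (31,4), (33,5), (34,6), (35,2), (36,5), (37,1), (38,6), (39,1), (40,6), (41,4), (42,2), (43,6), (44,4)],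
  [(0,2), (1,2), (2,3), (3,1), (4,4), (5,5), (6,2), (7,3), (8,4), (9,5), (10,5), (11,2), (12,6), (13,3), (14,4), (15,2), (16,2), (18,2), (19,5), (20,6), (21,2), (23,2), (24,2), (25,5), (26,1), (28,2), (31,4), (32,1), (33,5), (34,5), (35,6), (36,2), (37,2), (38,4), (40,1), (41,5), (42,5), (43,1), (44,1)],
  [(0,4), (1,1), (2,3), (3,1), (4,6), (5,3), (6,3), (7,4), (8,5), (9,3), (10,5), (11,1), (16,3), (17,4), (18,1), (19,3), (20,3), (21,1), (22,6), (23,2), (25,2), (26,3), (28,2), (29,2), (30,5), (31,5), (32,4), (33,2), (34,6), (35,5), (36,3), (37,4), (38,3), (39,2), (40,5), (41,3), (43,1), (44,2)],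
  [(0,5), (1,1), (2,2), (3,3), (4,2), (5,5), (6,2), (7,5), (8,3), (9,3), (10,2), (11,6), (13,6), (15,3), (16,6), (17,6), (18,4), (19,6), (20,4), (21,3), (23,1), (24,4), (25,6), (26,5), (27,5), (28,1), (29,5), (30,4), (31,5), (32,5), (33,2), (34,6), (35,4), (36,1), (37,3), (38,4), (41,1), (42,3), (43,4), (44,6)],
  [(0,4), (1,2), (2,1), (3,6), (6,4), (8,2), (9,1), (10,4), (11,4), (12,1), (13,5), (15,2), (16,5), (17,3), (19,2), (21,2), (22,6), (24,4), (25,5), (26,6), (27,4), (28,6), (29,3), (30,6), (31,1), (33,1), (34,6), (35,6), (37,6), (38,3), (39,4), (40,4), (43,4), (44,4)],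
  [(0,4), (1,5), (2,6), (4,4), (5,6), (6,2), (7,2), (8,4), (9,4), (10,2), (11,2), (12,5), (13,1), (14,6), (15,2), (17,5), (18,1), (19,1), (20,3), (21,2), (22,6), (23,1), (24,3), (25,5), (27,4), (28,6), (29,4), (30,1), (31,2), (32,1), (33,4), (34,1), (36,3), (37,6), (39,6), (40,1), (41,5), (42,2), (43,2), (44,6)],
  [(0,4), (2,2), (3,5), (4,4), (5,2), (7,4), (8,4), (9,6), (11,6), (12,5), (13,5), (14,5), (15,6), (16,4), (17,1), (18,4), (19,1), (22,4), (23,1), (24,1), (26,1), (27,2), (28,3), (29,5), (30,6), (31,6), (32,5), (34,1), (35,6), (36,1), (38,3), (39,3), (40,2), (42,3), (43,2)],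
  [(0,1), (1,4), (2,4), (3,2), (4,5), (6,1), (7,6), (8,1), (9,3), (11,2), (12,3), (13,6), (14,3), (15,2), (16,3), (17,6), (20,4), (21,3), (22,2), (23,2), (24,4), (25,2), (26,4), (27,2), (28,3), (30,2), (31,2), (32,3), (33,3), (34,5), (35,1), (37,6), (38,2), (39,5), (40,3), (41,3), (42,5), (43,4), (44,2)],
  [(1,3), (2,1), (4,3), (5,3), (6,6), (7,2), (8,1), (9,5), (10,1), (11,3), (12,6), (13,4), (14,3), (15,3), (16,6), (17,4), (18,4), (19,1), (20,5), (21,5), (22,5), (23,4), (24,1), (25,6), (26,5), (27,6), (28,3), (29,1), (30,5), (31,4), (32,3), (33,1), (34,5), (35,6), (36,1), (37,4), (38,5), (39,4), (40,1), (41,2), (42,1), (44,1)],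
  [(0,6), (1,5), (4,4), (5,3), (8,3), (9,6), (10,2), (11,6), (12,3), (13,3), (14,1), (16,5), (17,2), (18,5), (19,6), (21,5), (22,3), (23,6), (24,4), (25,2), (26,3), (27,5), (29,2), (30,1), (31,2), (33,6), (34,3), (35,4), (36,4), (39,2), (40,4), (41,5), (42,6), (43,6), (44,4)],
  [(0,1), (3,3), (4,2), (5,5), (6,2), (7,1), (8,5), (9,3), (10,3), (11,1), (12,1), (13,3), (14,6), (15,3), (16,1), (17,5), (18,4), (19,2), (20,6), (21,6), (22,1), (23,5), (24,5), (25,2), (26,3), (27,2), (28,1), (29,4), (31,5), (32,6), (34,1), (35,3), (36,1), (38,2), (39,4), (40,1), (42,4), (43,4)],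
  [(0,6), (1,3), (2,2), (3,6), (4,1), (5,1), (7,5), (8,4), (9,1), (10,5), (11,1), (12,4), (13,5), (14,4), (15,6), (16,4), (18,3), (19,6), (20,4), (21,1), (22,5), (23,6), (24,5), (25,6), (26,4), (27,6), (28,6), (30,3), (31,2), (32,3), (33,6), (34,5), (35,2), (36,6), (37,3), (38,3), (39,4), (40,1), (41,2), (44,3)],
  [(0,1), (1,6), (3,1), (4,4), (5,6), (6,2), (8,3), (9,1), (10,3), (11,5), (12,3), (13,6), (14,2), (15,6), (16,4), (17,4), (18,3), (19,2), (20,4), (21,4), (22,5), (23,1), (24,3), (25,3), (26,1), (27,3), (28,4), (29,2), (30,3), (31,4), (33,3), (34,4), (35,4), (37,3), (39,4), (40,1), (41,3), (42,5), (43,5), (44,1)],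
  [(1,2), (2,1), (3,5), (4,2), (5,4), (6,2), (7,3), (9,2), (10,5), (11,3), (13,5), (14,6), (16,4), (17,2), (18,3), (19,3), (20,2), (22,1), (23,6), (24,3), (25,3), (27,5), (28,4), (30,4), (31,3), (33,6), (34,5), (35,3), (36,2), (37,6), (38,5), (41,5), (42,4), (43,4), (44,4)],
  [(0,5), (1,6), (2,2), (3,1), (6,6), (8,1), (9,4), (11,4), (12,3), (14,4), (15,5), (16,5), (17,3), (19,6), (20,6), (21,3), (22,4), (23,2), (24,6), (25,4), (26,3), (27,5), (28,5), (29,5), (32,5), (34,1), (35,3), (36,5), (37,1), (38,3)],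
  [(0,4), (1,1), (2,2), (3,3), (4,4), (5,3), (6,2), (7,6), (8,6), (9,2), (10,4), (11,1), (12,2), (14,6), (15,1), (16,5), (17,2), (18,1), (19,6), (20,1), (21,2), (22,4), (23,4), (24,5), (25,5), (26,3), (27,5), (28,3), (29,4), (30,4), (31,2), (32,3), (33,1), (35,6), (36,3), (37,5), (38,6), (39,2), (40,5), (42,6), (43,6), (44,1)],
  [(0,4), (1,6), (2,4), (3,2), (4,6), (5,1), (6,4), (7,5), (8,2), (11,5), (12,4), (13,4), (14,4), (15,6), (16,6), (17,4), (18,1), (19,6), (20,1), (21,5), (22,1), (23,2), (26,6), (27,1), (29,1), (30,4), (31,4), (33,6), (34,5), (35,2), (36,4), (37,3), (38,5), (39,2), (40,4), (42,5), (43,4), (44,4)],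
  [(0,4), (1,2), (2,2), (3,6), (4,4), (5,4), (6,5), (7,5), (8,5), (9,6), (10,5), (11,2), (12,3), (13,3), (15,5), (16,6), (18,2), (19,6), (20,2), (21,2), (23,4), (24,5), (25,4), (26,3), (27,5), (28,2), (29,4), (31,3), (33,3), (34,6), (35,5), (37,3), (38,5), (39,1), (40,2), (41,4), (43,4)],
  [(0,4), (1,2), (2,4), (3,1), (4,4), (5,5), (6,4), (7,2), (8,5), (9,6), (10,3), (11,2), (12,3), (13,6), (14,6), (15,3), (17,3), (18,1), (19,6), (20,6), (22,4), (24,5), (25,2), (26,5), (27,1), (28,1), (29,4), (30,6), (31,4), (32,3), (33,1), (35,2), (36,3), (37,3), (39,1), (40,2), (42,1), (43,2)],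
  [(0,6), (1,3), (2,6), (3,3), (4,1), (5,6), (7,3), (8,4), (9,4), (10,6), (11,6), (12,5), (13,4), (15,1), (17,5), (19,5), (21,4), (22,1), (24,2), (25,6), (26,4), (27,3), (28,5), (29,1), (31,4), (32,1), (34,2), (35,3), (36,4), (37,1), (41,6), (42,4), (43,5), (44,5)],
  [(0,6), (1,3), (3,4), (4,6), (5,6), (6,1), (7,5), (8,4), (9,4), (10,6), (11,6), (12,5), (13,4), (15,2), (17,5), (19,5), (21,6), (22,6), (23,2), (24,3), (26,2), (27,4), (29,3), (30,6), (31,1), (32,4), (34,4), (35,4), (37,6), (38,4), (41,2), (42,1), (43,5), (44,6)]]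

/-- the matrices by letter -/
def mats (x : ℕ) : List (List (ℕ × ℕ)) :=
  match x with
  | 0 => mat0
  | 1 => mat1
  | 2 => mat2
  | 3 => mat3
  | 4 => mat4
  | 5 => mat5
  | 6 => mat6
  | _ => mat7

end CfsgLib.Recog.ONanMat
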