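import Cfsg.Agent.Lib.Recog.ONanMat.Packed
import Cfsg.Agent.Lib.Recog.ONanMat.Data

/-!
# The relators of the O'Nan presentation hold up to cube roots of unity in degree 45
-/

set_option autoImplicit false
set_option maxRecDepth 20000
set_option maxHeartbeats 2000000
set_option Elab.async false

namespace CfsgLib.Recog.ONanMat

/-- the label of two Coxeter nodes, numbered 1 to 6 -/
def label (x y : ℕ) : ℕ :=
  bif x == y then 1 else
    bif x + 1 == y || y + 1 == x then (bif x + y == 7 then 8 else 3) else 2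

/-- the word of an ordered pair of nodes -/
def pairWord (x y : ℕ) : List ℕ := (List.replicate (label x y) [x, y]).flatten

/-- packed form of a scalar matrix -/
def scalEnc (c : ℕ) : List ℕ := (List.range 45).map fun i => c * 2 ^ (64 * i)

/-- the nine relator words that are not Coxeter relators, with their scalar -/
def extraWords : List (List ℕ × ℕ) := [
  ([0, 7], 1), ([7, 0], 1),
  ([1, 6, 7, 7], 1),
  ([1, 6, 4, 3, 4, 3, 4, 3, 4, 3], 1),
  ([3, 7, 4, 7, 4, 3, 4, 0, 4, 0], 1),
  ([4, 7, 3, 7, 3, 4, 3, 0, 3, 0], 1),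
  ([2, 3, 4, 0, 2, 3, 4, 0, 2, 3, 4, 0, 2, 3, 4, 0, 2, 3, 4, 0], 2),
  ([0, 2, 3, 0, 3, 2, 0, 2, 3, 0, 3], 2),
  ([0, 5, 4, 0, 4, 5, 0, 5, 4, 0, 4], 2)]

theorem rows_check : ((List.range 8).all fun x => rowsOK 45 (mats x)) = true := by decide +kernel

theorem pairs_check : (((List.range 6).map (· + 1)).all fun x => ((List.range 6).map (· + 1)).all fun y =>
    evalWord mats (pairWord x y) == idEnc) = true := by decide +kernel

theorem extra_check : (extraWords.all fun p => evalWord mats p.1 == scalEnc p.2) = true := by decide +kernel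

theorem nontrivial_check : evalWord mats [1] ≠ idEnc ∧ evalWord mats [1] ≠ scalEnc 2 ∧ evalWord mats [1] ≠ scalEnc 4 := by
  decide +kernel

theorem enc_scalar : enc (Matrix.scalar (Fin 45) (1 : ZMod 7)) = scalEnc 1 ∧
    enc (Matrix.scalar (Fin 45) (2 : ZMod 7)) = scalEnc 2 := by decide +kernel

theorem enc_four : enc (Matrix.scalar (Fin 45) ((2 : ZMod 7) ^ 2)) = scalEnc 4 := by decide +kernel

theorem toMat_prod {w : List ℕ} {A : Mat 45} (hw : ∀ x ∈ w, x < 8) (h : evalWord mats w = enc A) :
    (w.map fun x => toMat 45 (mats x)).prod = A := by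
  refine enc_injective ?_
  rw [← evalWord_eq fun x hx => List.all_eq_true.1 rows_check x (List.mem_range.2 (hw x hx)), h]

end CfsgLib.Recog.ONanMat
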