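import Cfsg.Agent.Lib.Recog.ONanMat.Embed
import Cfsg.Prelude.Def_Sporadic

/-!
# The preimage of the O'Nan group in `SL 45` over seven elements
-/

set_option autoImplicit false
set_option maxRecDepth 20000

namespace CfsgLib.Recog.ONanMat

open Cfsg

/-- The preimage of a centreless group modulo central elements, pulled back along an injection. -/
theorem exists_central_preimage {G L S : Type*} [Group G] [Group L] [Group S] (Z : Subgroup L) [Z.Normal]
    (hZc : ∀ z ∈ Z, ∀ a : L, z * a = a * z) (ι : S →* L) (hι : Function.Injective ι) (f : G →* L ⧸ Z)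
    (hf : Function.Injective f) (hlift : ∀ a : L, QuotientGroup.mk' Z a ∈ f.range → ∃ s : S, ι s = a)
    (hG : Subgroup.center G = ⊥) :
    ∃ H : Subgroup S, Nat.card (Subgroup.center H) = Nat.card Z ∧ Nonempty (H ⧸ Subgroup.center H ≃* G) := by
  let H : Subgroup S := f.range.comap ((QuotientGroup.mk' Z).comp ι)
  let D : H →* G := (MonoidHom.ofInjective hf).symm.toMonoidHom.comp
    ((((QuotientGroup.mk' Z).comp ι).comp H.subtype).codRestrict f.range fun h => h.2)
  have hD : ∀ h : H, f (D h) = QuotientGroup.mk' Z (ι h.1) := fun h =>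
    congrArg Subtype.val ((MonoidHom.ofInjective hf).apply_symm_apply
      ((((QuotientGroup.mk' Z).comp ι).comp H.subtype).codRestrict f.range (fun h => h.2) h))
  have hsurj : Function.Surjective D := by
    intro u
    obtain ⟨a, ha⟩ := QuotientGroup.mk'_surjective Z (f u)
    obtain ⟨s, hs⟩ := hlift a ⟨u, ha.symm⟩
    refine ⟨⟨s, ⟨u, ?_⟩⟩, hf ?_⟩
    · rw [MonoidHom.comp_apply, hs, ha]
    · rw [hD]
      show QuotientGroup.mk' Z (ι s) = _
      rw [hs, ha]
  have hker : ∀ h : H, h ∈ D.ker ↔ ι h.1 ∈ Z := fun h => by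
    rw [MonoidHom.mem_ker, ← hf.eq_iff, hD, map_one]
    exact QuotientGroup.eq_one_iff _
  have hcard : Nat.card D.ker = Nat.card Z := by
    refine Nat.card_eq_of_bijective (fun h => ⟨_, (hker h.1).1 h.2⟩) ⟨fun a b e => ?_, fun z => ?_⟩
    · exact Subtype.ext (Subtype.ext (hι (congrArg Subtype.val e)))
    · have h1 : QuotientGroup.mk' Z z.1 = 1 := (QuotientGroup.eq_one_iff _).2 z.2
      obtain ⟨s, hs⟩ := hlift z.1 ⟨1, by rw [map_one, h1]⟩
      have hm : s ∈ H := ⟨1, by rw [map_one, MonoidHom.comp_apply, hs, h1]⟩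
      exact ⟨⟨⟨s, hm⟩, (hker ⟨s, hm⟩).2 (by show ι s ∈ Z; rw [hs]; exact z.2)⟩, Subtype.ext hs⟩
  have hcen : Subgroup.center H = D.ker := by
    refine le_antisymm (fun h hh => ?_) (fun h hh => Subgroup.mem_center_iff.2 fun y => ?_)
    · have hc : D h ∈ Subgroup.center G := Subgroup.mem_center_iff.2 fun u => by
        obtain ⟨y, rfl⟩ := hsurj u
        rw [← map_mul, ← map_mul, Subgroup.mem_center_iff.1 hh y]
      rw [hG, Subgroup.mem_bot] at hc
      exact hc
    · exact Subtype.ext (hι (by
        simp only [Subgroup.coe_mul, map_mul]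
        exact (hZc _ ((hker h).1 hh) _).symm))
  refine ⟨H, by rw [hcen, hcard], ⟨?_⟩⟩
  exact (QuotientGroup.quotientMulEquivOfEq hcen).trans (QuotientGroup.quotientKerEquivOfSurjective D hsurj)

/-- A nonabelian simple group has trivial centre and no nontrivial map to a commutative group. -/
theorem simple_facts {G : Type*} [Group G] [Finite G] (hs : IsSimpleGroup G) (hp : ¬ (Nat.card G).Prime) :
    Subgroup.center G = ⊥ ∧ ∀ {A : Type} [CommGroup A] (f : G →* A) (u : G), f u = 1 := by
  have hnc : ¬ ∀ a b : G, a * b = b * a := fun h => by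
    let _ : CommGroup G := { (inferInstance : Group G) with mul_comm := h }
    exact hp IsSimpleGroup.prime_card
  refine ⟨?_, fun f u => ?_⟩
  · exact (IsSimpleGroup.eq_bot_or_eq_top_of_normal _ inferInstance).resolve_right fun e =>
      hnc fun a b => Subgroup.mem_center_iff.1 (e ▸ Subgroup.mem_top b) a
  · rcases IsSimpleGroup.eq_bot_or_eq_top_of_normal f.ker inferInstance with h | h
    · exact absurd (fun a b => (MonoidHom.ker_eq_bot_iff f).1 h (by rw [map_mul, map_mul, mul_comm])) hnc
    · rw [← MonoidHom.mem_ker, h]; exact Subgroup.mem_top _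

/-- The central elements lie in every such preimage, so their determinants and those of all lifts are one. -/
theorem exists_sl_lift {n R : Type} [DecidableEq n] [Fintype n] [CommRing R] (Z : Subgroup (GL n R)) [Z.Normal]
    (hZd : Z ≤ (Matrix.GeneralLinearGroup.det (n := n) (R := R)).ker) {G : Type*} [Group G] (f : G →* GL n R ⧸ Z)
    (htriv : ∀ {A : Type} [CommGroup A] (φ : G →* A) (u : G), φ u = 1) (a : GL n R)
    (ha : QuotientGroup.mk' Z a ∈ f.range) :
    ∃ s : Matrix.SpecialLinearGroup n R, Matrix.SpecialLinearGroup.toGL s = a := by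
  obtain ⟨u, hu⟩ := ha
  have h1 := htriv ((QuotientGroup.lift Z Matrix.GeneralLinearGroup.det hZd).comp f) u
  rw [MonoidHom.comp_apply, hu] at h1
  exact ⟨⟨a.val, congrArg Units.val h1⟩, Units.ext rfl⟩

theorem det_scalar_gen {R : Type*} [CommRing R] (n : ℕ) (c : R) : (Matrix.scalar (Fin n) c).det = c ^ n := by
  rw [Matrix.scalar_apply, Matrix.det_diagonal, Finset.prod_const, Finset.card_univ, Fintype.card_fin]

theorem omega_det : Matrix.GeneralLinearGroup.det omega = 1 := by
  refine Units.ext ?_
  rw [Matrix.GeneralLinearGroup.val_det_apply, show (omega.val : Mat 45) = Matrix.scalar (Fin 45) 2 by simp [omega],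
    det_scalar_gen, Units.val_one]
  rw [show (45 : ℕ) = 3 * 15 from rfl, pow_mul, show (2 : ZMod 7) ^ 3 = 1 by decide, one_pow]

theorem scalars_le_detKer : scalars ≤ (Matrix.GeneralLinearGroup.det (n := Fin 45) (R := ZMod 7)).ker :=
  Subgroup.zpowers_le.2 omega_det

theorem exists_cover : ∃ H : Subgroup (Matrix.SpecialLinearGroup (Fin 45) (ZMod 7)),
    Nat.card (Subgroup.center H) = 3 ∧ Cfsg.IsON (H ⧸ Subgroup.center H) := by
  obtain ⟨hs, hcard⟩ := ONan.isON_GON
  obtain ⟨hc, ht⟩ := simple_facts hs (by rw [hcard]; norm_num)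
  obtain ⟨H, h1, ⟨e⟩⟩ := exists_central_preimage scalars (fun z hz => scalars_central hz)
    Matrix.SpecialLinearGroup.toGL (fun x y h => Subtype.ext (congrArg Units.val h)) prep prep_injective
    (exists_sl_lift scalars scalars_le_detKer prep ht) hc
  exact ⟨H, h1.trans card_scalars, MulEquiv.isSimpleGroup e, (Nat.card_congr e.toEquiv).trans hcard⟩

end CfsgLib.Recog.ONanMat
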