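import Cfsg.Agent.Lib.Recog.ONanMat.Check
import Cfsg.Agent.Lib.Recog.ONan.Simple
import Cfsg.Prelude.Def_Spor_ON

/-!
# A triple cover of the presented O'Nan group inside `SL 45` over seven elements
-/

set_option autoImplicit false
set_option maxRecDepth 20000

namespace CfsgLib.Recog.ONanMat

open Cfsg

/-- the general linear group of degree 45 over seven elements -/
abbrev GL45 : Type := GL (Fin 45) (ZMod 7)

/-- the matrix of a letter -/
abbrev lmat (x : ℕ) : Mat 45 := toMat 45 (mats x)

theorem extra_prod {p : List ℕ × ℕ} (hp : p ∈ extraWords) :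
    (p.1.map lmat).prod = Matrix.scalar (Fin 45) (p.2 : ZMod 7) := by
  have h := List.all_eq_true.1 extra_check _ hp
  rw [beq_iff_eq] at h
  have h2 : (∀ x ∈ p.1, x < 8) ∧ (p.2 = 1 ∨ p.2 = 2) := by
    revert p; decide
  refine toMat_prod h2.1 (h.trans ?_)
  rcases h2.2 with e | e <;> rw [e]
  · simpa using enc_scalar.1.symm
  · simpa using enc_scalar.2.symm

theorem pair_prod {x y : ℕ} (hx : 1 ≤ x ∧ x ≤ 6) (hy : 1 ≤ y ∧ y ≤ 6) : ((pairWord x y).map lmat).prod = 1 := by
  have h := List.all_eq_true.1 (List.all_eq_true.1 pairs_check x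
    (List.mem_map.2 ⟨x - 1, List.mem_range.2 (by omega), by omega⟩)) y
    (List.mem_map.2 ⟨y - 1, List.mem_range.2 (by omega), by omega⟩)
  rw [beq_iff_eq] at h
  refine toMat_prod (fun z hz => ?_) (h.trans enc_one.symm)
  obtain ⟨l, hl, hzl⟩ := List.mem_flatten.1 hz
  rw [List.eq_of_mem_replicate hl] at hzl
  simp only [List.mem_cons, List.not_mem_nil, or_false] at hzl
  omega

theorem lmat_sq {x : ℕ} (hx : 1 ≤ x ∧ x ≤ 6) : lmat x * lmat x = 1 := by
  simpa [pairWord, label] using pair_prod hx hx

/-- the number of a letter of the inverse -/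
def inl (x : ℕ) : ℕ := if x = 0 then 7 else if 7 ≤ x then 0 else x

theorem lmat_inl (x : ℕ) : lmat x * lmat (inl x) = 1 ∧ lmat (inl x) * lmat x = 1 := by
  have h1 : lmat 0 * lmat 7 = 1 := by simpa using extra_prod (p := ([0, 7], 1)) (by decide)
  have h2 : lmat 7 * lmat 0 = 1 := by simpa using extra_prod (p := ([7, 0], 1)) (by decide)
  rcases eq_or_ne x 0 with rfl | h0
  · exact ⟨h1, h2⟩
  rcases lt_or_ge x 7 with h | h
  · have : inl x = x := by simp [inl, h0, not_le.2 h]
    rw [this]; exact ⟨lmat_sq ⟨by omega, by omega⟩, lmat_sq ⟨by omega, by omega⟩⟩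
  · have h7 : mats x = mats 7 := by
      obtain ⟨k, rfl⟩ := Nat.exists_eq_add_of_le h
      rw [Nat.add_comm]
      rfl
    have : inl x = 0 := by simp [inl, h0, h]
    rw [this, lmat, h7]; exact ⟨h2, h1⟩

/-- the invertible matrix of a letter -/
def unitL (x : ℕ) : GL45 := ⟨lmat x, lmat (inl x), (lmat_inl x).1, (lmat_inl x).2⟩

theorem unitL_val_prod (w : List ℕ) : ((w.map unitL).prod : GL45).val = (w.map lmat).prod := by
  induction w with
  | nil => rfl
  | cons x w ih => simp only [List.map_cons, List.prod_cons, Units.val_mul, ih]; rfl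

/-- the scalar cube root of unity two -/
def omega : GL45 :=
  ⟨Matrix.scalar (Fin 45) 2, Matrix.scalar (Fin 45) 4, by rw [← map_mul]; exact congrArg _ (by decide) |>.trans (map_one _),
    by rw [← map_mul]; exact congrArg _ (by decide) |>.trans (map_one _)⟩

theorem omega_cube : omega ^ 3 = 1 := by
  refine Units.ext ?_
  show Matrix.scalar (Fin 45) (2 : ZMod 7) ^ 3 = 1
  rw [← map_pow, show (2 : ZMod 7) ^ 3 = 1 by decide, map_one]

theorem omega_ne_one : omega ≠ 1 := fun h => by
  have h1 : (omega.val : Mat 45) 0 0 = (1 : Mat 45) 0 0 := by rw [h]; rfl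
  simp [omega] at h1
  exact absurd h1 (by decide)

theorem omega_comm (A : GL45) : omega * A = A * omega := by
  refine Units.ext ?_
  exact (Matrix.scalar_commute _ (fun r => Commute.all 2 r) A.val).eq

/-- the cube roots of unity as scalar matrices -/
def scalars : Subgroup GL45 := Subgroup.zpowers omega

theorem card_scalars : Nat.card scalars = 3 := by
  rw [scalars, Nat.card_zpowers]
  have : Fact (Nat.Prime 3) := ⟨by norm_num⟩
  exact orderOf_eq_prime omega_cube omega_ne_one

theorem scalars_central {z : GL45} (hz : z ∈ scalars) (A : GL45) : z * A = A * z := by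
  have h : scalars ≤ Subgroup.center GL45 :=
    Subgroup.zpowers_le.2 (Subgroup.mem_center_iff.2 fun B => (omega_comm B).symm)
  exact (Subgroup.mem_center_iff.1 (h hz) A).symm

instance scalars_normal : scalars.Normal := ⟨fun n hn A => by
  rw [← scalars_central hn A, mul_inv_cancel_right]; exact hn⟩

/-- the projective image of a letter -/
def pimage (x : ℕ) : GL45 ⧸ scalars := QuotientGroup.mk' scalars (unitL x)

theorem pimage_prod {w : List ℕ} {c : ℕ} (h : (w, c) ∈ extraWords) : (w.map pimage).prod = 1 := by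
  have e : (w.map pimage).prod = QuotientGroup.mk' scalars (w.map unitL).prod := by
    rw [map_list_prod, List.map_map]; rfl
  rw [e]
  refine (QuotientGroup.eq_one_iff _).2 ?_
  have hv : ((w.map unitL).prod : GL45).val = Matrix.scalar (Fin 45) (c : ZMod 7) := by
    rw [unitL_val_prod]; exact extra_prod h
  have hc : c = 1 ∨ c = 2 := (by decide : ∀ p ∈ extraWords, p.2 = 1 ∨ p.2 = 2) _ h
  rcases hc with rfl | rfl
  · have : (w.map unitL).prod = 1 := Units.ext (by rw [hv]; simp)
    rw [this]; exact one_mem _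
  · have : (w.map unitL).prod = omega := Units.ext (by rw [hv]; simp [omega])
    rw [this]; exact Subgroup.mem_zpowers _

/-- the number of a generator -/
def idx : Spor.ON.Gen → ℕ
  | .g => 0
  | .a => 1
  | .b => 2
  | .c => 3
  | .d => 4
  | .e => 5
  | .f => 6

/-- the projective image of a generator -/
def genImage (x : Spor.ON.Gen) : GL45 ⧸ scalars := pimage (idx x)

theorem pimage_inl (x : ℕ) : (pimage x)⁻¹ = pimage (inl x) := by
  rw [pimage, pimage, ← map_inv]
  exact congrArg _ (Units.ext rfl)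

theorem label_eq : ∀ x ∈ Spor.coxNodes Spor.ON.edges, ∀ y ∈ Spor.coxNodes Spor.ON.edges,
    Spor.coxLabel Spor.ON.edges x y = label (idx x) (idx y) ∧ (1 ≤ idx x ∧ idx x ≤ 6) ∧ (1 ≤ idx y ∧ idx y ≤ 6) := by
  decide

theorem pair_rel {x y : ℕ} (hx : 1 ≤ x ∧ x ≤ 6) (hy : 1 ≤ y ∧ y ≤ 6) : (pimage x * pimage y) ^ label x y = 1 := by
  have h : ((unitL x * unitL y) ^ label x y : GL45) = 1 := by
    refine Units.ext ?_
    have := pair_prod hx hy
    rw [pairWord, List.map_flatten, List.map_replicate, List.prod_flatten, List.map_replicate, List.prod_replicate] at this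
    simpa [unitL] using this
  rw [pimage, pimage, ← map_mul, ← map_pow, h, map_one]

theorem rels_one : ∀ r ∈ Spor.coxRelators Spor.ON.edges ∪ {r | r ∈ Spor.ON.extra},
    FreeGroup.lift genImage r = 1 := by
  rintro r (⟨x, hx, y, hy, rfl⟩ | hr)
  · obtain ⟨hl, h1, h2⟩ := label_eq x hx y hy
    simp only [map_pow, map_mul, FreeGroup.lift_apply_of, genImage, hl]
    exact pair_rel h1 h2
  · have i0 : (pimage 0)⁻¹ = pimage 7 := pimage_inl 0
    have i1 : (pimage 1)⁻¹ = pimage 1 := pimage_inl 1
    have i2 : (pimage 2)⁻¹ = pimage 2 := pimage_inl 2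
    have i3 : (pimage 3)⁻¹ = pimage 3 := pimage_inl 3
    have i4 : (pimage 4)⁻¹ = pimage 4 := pimage_inl 4
    have i5 : (pimage 5)⁻¹ = pimage 5 := pimage_inl 5
    simp only [Spor.ON.extra, Set.mem_setOf_eq, List.mem_cons, List.not_mem_nil, or_false] at hr
    rcases hr with rfl | rfl | rfl | rfl | rfl | rfl | rfl
    · have h := pimage_prod (w := [1, 6, 7, 7]) (c := 1) (by decide)
      simpa [genImage, idx, pow_succ, mul_assoc, i0] using h
    · have h := pimage_prod (w := [1, 6, 4, 3, 4, 3, 4, 3, 4, 3]) (c := 1) (by decide)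
      simpa [genImage, idx, pow_succ, mul_assoc, mul_inv_rev, i3, i4] using h
    · have h := pimage_prod (w := [3, 7, 4, 7, 4, 3, 4, 0, 4, 0]) (c := 1) (by decide)
      simpa [genImage, idx, mul_assoc, mul_inv_rev, i0, i4] using h
    · have h := pimage_prod (w := [4, 7, 3, 7, 3, 4, 3, 0, 3, 0]) (c := 1) (by decide)
      simpa [genImage, idx, mul_assoc, mul_inv_rev, i0, i3] using h
    · have h := pimage_prod (w := [2, 3, 4, 0, 2, 3, 4, 0, 2, 3, 4, 0, 2, 3, 4, 0, 2, 3, 4, 0]) (c := 2) (by decide)
      simpa [genImage, idx, pow_succ, mul_assoc] using h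
    · have h := pimage_prod (w := [0, 2, 3, 0, 3, 2, 0, 2, 3, 0, 3]) (c := 2) (by decide)
      simpa [genImage, idx, mul_assoc, i2, i3] using h
    · have h := pimage_prod (w := [0, 5, 4, 0, 4, 5, 0, 5, 4, 0, 4]) (c := 2) (by decide)
      simpa [genImage, idx, mul_assoc, i4, i5] using h

/-- the projective representation -/
def prep : ONan.GON →* GL45 ⧸ scalars := PresentedGroup.toGroup rels_one

theorem prep_injective : Function.Injective prep := by
  have := ONan.isON_GON.1
  rw [← MonoidHom.ker_eq_bot_iff]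
  refine (IsSimpleGroup.eq_bot_or_eq_top_of_normal prep.ker inferInstance).resolve_right fun h => ?_
  have h0 : prep (PresentedGroup.of Spor.ON.Gen.a) = 1 := by
    rw [← MonoidHom.mem_ker, h]; exact Subgroup.mem_top _
  rw [prep, PresentedGroup.toGroup.of] at h0
  obtain ⟨k, hk⟩ := (QuotientGroup.eq_one_iff _).1 h0
  have hk' : unitL 1 = 1 ∨ unitL 1 = omega ∨ unitL 1 = omega ^ 2 := by
    have h3 : omega ^ k = omega ^ (k % 3) := by
      conv_lhs => rw [← Int.emod_add_mul_ediv k 3]
      rw [zpow_add, zpow_mul, show (omega ^ (3 : ℤ) : GL45) = 1 from omega_cube, one_zpow, mul_one]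
    have : k % 3 = 0 ∨ k % 3 = 1 ∨ k % 3 = 2 := by omega
    simp only [idx] at hk
    rw [show unitL 1 = omega ^ k from hk.symm, h3]
    rcases this with e | e | e <;> rw [e]
    · exact Or.inl (zpow_zero _)
    · exact Or.inr (Or.inl (zpow_one _))
    · exact Or.inr (Or.inr (zpow_two _ |>.trans (pow_two _).symm))
  obtain ⟨n1, n2, n4⟩ := nontrivial_check
  have he : evalWord mats [1] = enc (lmat 1) := by
    rw [evalWord_eq (w := [1]) fun x hx => List.all_eq_true.1 rows_check x (by simp at hx; simp [hx])]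
    simp
  rcases hk' with e | e | e
  · exact n1 (by rw [he, show lmat 1 = (1 : Mat 45) from congrArg Units.val e, enc_one])
  · exact n2 (by rw [he, show lmat 1 = Matrix.scalar (Fin 45) (2 : ZMod 7) from congrArg Units.val e, enc_scalar.2])
  · refine n4 ?_
    rw [he, show lmat 1 = Matrix.scalar (Fin 45) (2 : ZMod 7) ^ 2 from congrArg Units.val e]
    rw [← map_pow]
    exact enc_four

end CfsgLib.Recog.ONanMat
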